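import Mathlib
import Groth.Agent.DerCat.LeftResolution

/-!
# One step of a special system of left resolutions
-/

set_option autoImplicit false
universe v u
open CategoryTheory CategoryTheory.Limits CochainComplex HomologicalComplex

set_option backward.isDefEq.respectTransparency false

namespace SpecialSys

section
variable {A : Type u} [Category.{v} A] [Abelian A]

lemma isStrictlyLE_cone {S M : CochainComplex A ℤ} (g : S ⟶ M) (b : ℤ) [S.IsStrictlyLE b] [M.IsStrictlyLE b] :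
    (mappingCone g).IsStrictlyLE b := by
  rw [CochainComplex.isStrictlyLE_iff]
  intro i hi
  rw [IsZero.iff_id_eq_zero]
  refine (mappingCone.id_X g i (i + 1) rfl).symm.trans ?_
  rw [(S.isZero_of_isStrictlyLE b (i + 1) (by omega)).eq_of_tgt ((mappingCone.fst g).1.v i (i + 1) rfl) 0,
    (M.isZero_of_isStrictlyLE b i hi).eq_of_tgt ((mappingCone.snd g).v i i (add_zero i)) 0]
  simp

lemma quasiIso_cone_map {K₁ L₁ K₂ L₂ : CochainComplex A ℤ} (φ₁ : K₁ ⟶ L₁) (φ₂ : K₂ ⟶ L₂) (a : K₁ ⟶ K₂) (b : L₁ ⟶ L₂)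
    (comm : φ₁ ≫ b = a ≫ φ₂) [QuasiIso a] [QuasiIso b] : QuasiIso (mappingCone.map φ₁ φ₂ a b comm) := by
  letI := HasDerivedCategory.standard A
  have h1 : IsIso (DerivedCategory.Q.map a) := (DerivedCategory.isIso_Q_map_iff_quasiIso (C := A) a).mpr ‹_›
  have h2 : IsIso (DerivedCategory.Q.map b) := (DerivedCategory.isIso_Q_map_iff_quasiIso (C := A) b).mpr ‹_›
  exact (DerivedCategory.isIso_Q_map_iff_quasiIso (C := A) _).mp (Pretriangulated.isIso₃_of_isIso₁₂
    (DerivedCategory.Q.mapTriangle.map (mappingCone.triangleMap φ₁ φ₂ a b comm))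
    (DerivedCategory.mappingCone_triangle_distinguished φ₁) (DerivedCategory.mappingCone_triangle_distinguished φ₂) h1 h2)

lemma step (P : ObjectProperty A) [P.IsClosedUnderIsomorphisms] {Z : A} (hZ : IsZero Z) (hPZ : P Z)
    (hsum : ∀ X Y : A, P X → P Y → P (X ⊞ Y)) (hP : ∀ X : A, ∃ (Y : A) (π : Y ⟶ X), P Y ∧ Epi π)
    (Q T : CochainComplex A ℤ) (b : ℤ) [Q.IsStrictlyLE b] [T.IsStrictlyLE b] (hQ : ∀ i, P (Q.X i)) (α : Q ⟶ T) :
    ∃ (Q' : CochainComplex A ℤ) (ι : Q ⟶ Q') (π : Q' ⟶ T), Q'.IsStrictlyLE b ∧ (∀ i, P (Q'.X i)) ∧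
      QuasiIso π ∧ (∀ i, Epi (π.f i)) ∧ ι ≫ π = α ∧
      ∀ i, (∃ r, ι.f i ≫ r = 𝟙 _) ∧ P (cokernel (ι.f i)) := by
  obtain ⟨R, β, hR, hRP, hβ, hβq⟩ := Groth.Agent.DerCat.LeftRes.exists_resolution P hP hZ hPZ T b
  let σ : Q ⊞ R ⟶ T := biprod.desc α β
  have hσ : ∀ i, Epi (σ.f i) := fun i => by
    have h : (biprod.inr : R ⟶ Q ⊞ R).f i ≫ σ.f i = β.f i := by rw [← comp_f, biprod.inr_desc]
    have : Epi ((biprod.inr : R ⟶ Q ⊞ R).f i ≫ σ.f i) := h ▸ hβ i
    exact epi_of_epi ((biprod.inr : R ⟶ Q ⊞ R).f i) (σ.f i)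
  have : Epi σ := HomologicalComplex.epi_of_epi_f _ hσ
  have hMLE : (Q ⊞ R).IsStrictlyLE b := (CochainComplex.isStrictlyLE_iff _ _).2 fun i hi =>
    IsZero.of_iso ((biprod_isZero_iff _ _).mpr ⟨Q.isZero_of_isStrictlyLE b i hi, R.isZero_of_isStrictlyLE b i hi⟩)
      ((HomologicalComplex.eval A (ComplexShape.up ℤ) i).mapBiprod Q R)
  let E := kernel σ
  have hELE : E.IsStrictlyLE b := (CochainComplex.isStrictlyLE_iff _ _).2 fun i hi =>
    IsZero.of_mono ((kernel.ι σ).f i) ((Q ⊞ R).isZero_of_isStrictlyLE b i hi)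
  obtain ⟨S, γ, hS, hSP, -, hγ⟩ := Groth.Agent.DerCat.LeftRes.exists_resolution P hP hZ hPZ E b
  let g : S ⟶ Q ⊞ R := γ ≫ kernel.ι σ
  let SC := ShortComplex.mk (kernel.ι σ) σ (kernel.condition σ)
  have hSC : SC.ShortExact := { exact := ShortComplex.exact_of_f_is_kernel SC (kernelIsKernel σ) }
  let m : mappingCone g ⟶ mappingCone SC.f := mappingCone.map g SC.f γ (𝟙 _) (Category.comp_id _)
  have hm : QuasiIso m := quasiIso_cone_map _ _ _ _ _
  have hd : QuasiIso (mappingCone.descShortComplex SC) := mappingCone.quasiIso_descShortComplex hSC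
  let π : mappingCone g ⟶ T := m ≫ mappingCone.descShortComplex SC
  have hinr : mappingCone.inr g ≫ π = σ := by simp [π, m, mappingCone.map, SC]; exact mappingCone.inr_descShortComplex SC
  refine ⟨mappingCone g, biprod.inl ≫ mappingCone.inr g, π, isStrictlyLE_cone g b, fun i => ?_, inferInstanceAs (QuasiIso (m ≫ _)), fun i => ?_, by rw [Category.assoc, hinr]; exact biprod.inl_desc _ _, fun i => ?_⟩
  · exact P.prop_of_iso (HomologicalComplex.homotopyCofiber.XIsoBiprod g i (i + 1) rfl).symm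
      (hsum _ _ (hSP _) (P.prop_of_iso ((HomologicalComplex.eval A (ComplexShape.up ℤ) i).mapBiprod Q R).symm (hsum _ _ (hQ i) (hRP i))))
  · have : Epi ((mappingCone.inr g).f i ≫ π.f i) := by rw [← comp_f, hinr]; exact hσ i
    exact epi_of_epi ((mappingCone.inr g).f i) (π.f i)
  · let e := (HomologicalComplex.eval A (ComplexShape.up ℤ) i).mapBiprod Q R
    let ε : (mappingCone g).X i ≅ Q.X i ⊞ (R.X i ⊞ S.X (i + 1)) :=
      { hom := biprod.lift ((mappingCone.snd g).v i i (add_zero i) ≫ (biprod.fst : Q ⊞ R ⟶ Q).f i)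
          (biprod.lift ((mappingCone.snd g).v i i (add_zero i) ≫ (biprod.snd : Q ⊞ R ⟶ R).f i) ((mappingCone.fst g).1.v i (i + 1) rfl))
        inv := biprod.desc ((biprod.inl : Q ⟶ Q ⊞ R).f i ≫ (mappingCone.inr g).f i)
          (biprod.desc ((biprod.inr : R ⟶ Q ⊞ R).f i ≫ (mappingCone.inr g).f i) ((mappingCone.inl g).v (i + 1) i (by omega)))
        hom_inv_id := by
          have h : ((biprod.fst : Q ⊞ R ⟶ Q).f i ≫ (biprod.inl : Q ⟶ Q ⊞ R).f i) + (biprod.snd : Q ⊞ R ⟶ R).f i ≫ (biprod.inr : R ⟶ Q ⊞ R).f i = 𝟙 _ := by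
            rw [← comp_f, ← comp_f, ← add_f_apply, biprod.total, id_f]
          have h' := mappingCone.id_X g i (i + 1) rfl
          rw [biprod.lift_desc, biprod.lift_desc, ← h']
          conv_rhs => arg 2; rw [← Category.comp_id ((mappingCone.snd g).v i i (add_zero i)), ← h]
          simp only [Preadditive.comp_add, Preadditive.add_comp, Category.assoc]
          abel
        inv_hom_id := by
          apply biprod.hom_ext'
          · apply biprod.hom_ext
            · simp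
            · apply biprod.hom_ext <;> simp
          · apply biprod.hom_ext'
            · apply biprod.hom_ext
              · simp
              · apply biprod.hom_ext <;> simp
            · apply biprod.hom_ext
              · simp
              · apply biprod.hom_ext <;> simp }
    have hι : (biprod.inl ≫ mappingCone.inr g : Q ⟶ _).f i = biprod.inl ≫ ε.inv := by simp [ε]
    have : IsIso ε.inv := Iso.isIso_inv ε
    refine ⟨⟨ε.hom ≫ biprod.fst, by rw [hι]; simp⟩, ?_⟩
    exact P.prop_of_iso ((cokernelIsoOfEq hι).trans ((cokernelCompIsIso _ ε.inv).trans cokernelBiprodInlIso)).symm (hsum _ _ (hRP i) (hSP _))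

lemma exists_transition (K : CochainComplex A ℤ) (n m : ℤ) (h : n ≤ m) :
    ∃ t : K.truncLE n ⟶ K.truncLE m, t ≫ K.ιTruncLE m = K.ιTruncLE n := by
  have : (K.truncLE n).IsStrictlyLE m := (K.truncLE n).isStrictlyLE_of_le n m h
  exact ⟨inv ((K.truncLE n).ιTruncLE m) ≫ CochainComplex.truncLEMap (K.ιTruncLE n) m, by
    rw [Category.assoc, CochainComplex.ιTruncLE_naturality, IsIso.inv_hom_id_assoc]⟩

end

end SpecialSys
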